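import Cfsg.Agent.Lib.SporRecognition.Cert.ONL37.LowerT

/-! Generated coset-enumeration certificate: ON over <points and lines of PG(2,7)>, 114 cosets. -/

set_option autoImplicit false
set_option maxRecDepth 20000
set_option linter.all false
set_option Elab.async false

namespace CfsgLib.SporRecognition.Cert.ONL37

open CfsgLib.SporRecognition.CosetCert

def mark4Lit : Nat := 0x4200
noncomputable def mark4 (u : Nat) : Nat := Nat.land (Nat.shiftRight mark4Lit (Nat.mul 1 u)) 1
def rk4Lit : Nat := 0x4000
noncomputable def rk4 (u : Nat) : Nat := Nat.land (Nat.shiftRight rk4Lit (Nat.mul 1 u)) 1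
def via4Lit : Nat := 0x0
noncomputable def via4 (u : Nat) : Nat := Nat.land (Nat.shiftRight via4Lit (Nat.mul 2 u)) 3
def src4Lit : Nat := 0x24000000000000000000000000
noncomputable def src4 (u : Nat) : Nat := Nat.land (Nat.shiftRight src4Lit (Nat.mul 7 u)) 127
theorem reach4 : allBelow 7 114 (reachStep [L4g0, L4g1] 9 mark4 rk4 via4 src4 114) = true := by decide +kernel

theorem count4 : countLab 7 114 mark4 1 = 2 := by decide +kernel

end CfsgLib.SporRecognition.Cert.ONL37
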