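import Cfsg.Agent.Lib.SporRecognition.Cert.ONL37.LowerT

/-! Generated coset-enumeration certificate: ON over <points and lines of PG(2,7)>, 114 cosets. -/

set_option autoImplicit false
set_option maxRecDepth 20000
set_option linter.all false
set_option Elab.async false

namespace CfsgLib.SporRecognition.Cert.ONL37

open CfsgLib.SporRecognition.CosetCert

def mark0Lit : Nat := 0x3ffffffffffffffffffffffffffff
noncomputable def mark0 (u : Nat) : Nat := Nat.land (Nat.shiftRight mark0Lit (Nat.mul 1 u)) 1
def rk0Lit : Nat := 0x2d25dacdaebb5fadbadd6ebb5d75d36db5bb5bb6d6de8a49249948b4924da4c96932cb45265269228a4910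
noncomputable def rk0 (u : Nat) : Nat := Nat.land (Nat.shiftRight rk0Lit (Nat.mul 3 u)) 7
def via0Lit : Nat := 0x6994816494926406db0492190082db4022906cb04a0c00536c341a28b4122890c92d94090402590da690
noncomputable def via0 (u : Nat) : Nat := Nat.land (Nat.shiftRight via0Lit (Nat.mul 3 u)) 7
def src0Lit : Nat := 0x13b20000b2662740146621a2a12683156e04798623c320103d9134e6950a0c50e8d002578306d0b13509cf1d0491bac5460f5badbef3b9b3f251d5c37ddd5a6dd9c986e3bc76e256abbe5ebb9678eee1bb8e1dcea2d39712d48815b0e9c9a6d5e9f6a580
noncomputable def src0 (u : Nat) : Nat := Nat.land (Nat.shiftRight src0Lit (Nat.mul 7 u)) 127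
theorem reach0 : allBelow 7 114 (reachStep [L0g0, L0g1, L0g2, L0g3] 0 mark0 rk0 via0 src0 114) = true := by decide +kernel

theorem count0 : countLab 7 114 mark0 1 = 114 := by decide +kernel

end CfsgLib.SporRecognition.Cert.ONL37
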