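import Cfsg.Agent.Lib.SporRecognition.Cert.ONL37.LowerT

/-! Generated coset-enumeration certificate: ON over <points and lines of PG(2,7)>, 114 cosets. -/

set_option autoImplicit false
set_option maxRecDepth 20000
set_option linter.all false
set_option Elab.async false

namespace CfsgLib.SporRecognition.Cert.ONL37

open CfsgLib.SporRecognition.CosetCert

theorem L1eq0 : allBelow 7 114 (fun u => Nat.beq (L1g0 u) (trace [L0g1, L0g1, L0g2, L0g2, L0g3, L0g0, L0g1, L0g2, L0g1, L0g2] u)) = true := by decide +kernel

theorem L1eq1 : allBelow 7 114 (fun u => Nat.beq (L1g1 u) (trace [L0g3, L0g0, L0g0, L0g3, L0g3, L0g2] u)) = true := by decide +kernel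

theorem L1eq2 : allBelow 7 114 (fun u => Nat.beq (L1g2 u) (trace [L0g0, L0g0, L0g3, L0g3, L0g2, L0g3, L0g0, L0g1] u)) = true := by decide +kernel

theorem L1inv0 : allBelow 7 114 (invStep L1g0 L1g3 114) = true := by decide +kernel

theorem L1inv1 : allBelow 7 114 (invStep L1g1 L1g4 114) = true := by decide +kernel

theorem L1inv2 : allBelow 7 114 (invStep L1g2 L1g5 114) = true := by decide +kernel

end CfsgLib.SporRecognition.Cert.ONL37
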