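import Cfsg.Agent.Lib.SporRecognition.Cert.ONL37.LowerT

/-! Generated coset-enumeration certificate: ON over <points and lines of PG(2,7)>, 114 cosets. -/

set_option autoImplicit false
set_option maxRecDepth 20000
set_option linter.all false
set_option Elab.async false

namespace CfsgLib.SporRecognition.Cert.ONL37

open CfsgLib.SporRecognition.CosetCert

def mark1Lit : Nat := 0x1fffffffffffffe
noncomputable def mark1 (u : Nat) : Nat := Nat.land (Nat.shiftRight mark1Lit (Nat.mul 1 u)) 1
def rk1Lit : Nat := 0x38636934db89b85489388c69a85c4db91445b6db6c0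
noncomputable def rk1 (u : Nat) : Nat := Nat.land (Nat.shiftRight rk1Lit (Nat.mul 3 u)) 7
def via1Lit : Nat := 0x524c1122228214aa0ad245912b4cb21215329a48800
noncomputable def via1 (u : Nat) : Nat := Nat.land (Nat.shiftRight via1Lit (Nat.mul 3 u)) 7
def src1Lit : Nat := 0xb08042a1347450d4cbc98b22298980c04e850a98b1a66d80864a9911d060579b6c60d3160a1b2e3a0579e543459e6488000
noncomputable def src1 (u : Nat) : Nat := Nat.land (Nat.shiftRight src1Lit (Nat.mul 7 u)) 127
theorem reach1 : allBelow 7 114 (reachStep [L1g0, L1g1, L1g2, L1g3, L1g4, L1g5] 1 mark1 rk1 via1 src1 114) = true := by decide +kernel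

theorem count1 : countLab 7 114 mark1 1 = 56 := by decide +kernel

end CfsgLib.SporRecognition.Cert.ONL37
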