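import Cfsg.Agent.Lib.SporRecognition.Cert.ONL37.LowerT

/-! Generated coset-enumeration certificate: ON over <points and lines of PG(2,7)>, 114 cosets. -/

set_option autoImplicit false
set_option maxRecDepth 20000
set_option linter.all false
set_option Elab.async false

namespace CfsgLib.SporRecognition.Cert.ONL37

open CfsgLib.SporRecognition.CosetCert

theorem L2eq0 : allBelow 7 114 (fun u => Nat.beq (L2g0 u) (trace [L1g4, L1g2, L1g1, L1g1, L1g2, L1g4, L1g5, L1g4] u)) = true := by decide +kernel

theorem L2eq1 : allBelow 7 114 (fun u => Nat.beq (L2g1 u) (trace [L1g1, L1g2, L1g2, L1g1, L1g0, L1g4, L1g5, L1g5, L1g4] u)) = true := by decide +kernel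

theorem L2eq2 : allBelow 7 114 (fun u => Nat.beq (L2g2 u) (trace [L1g0, L1g1, L1g1, L1g1, L1g0, L1g1, L1g2, L1g3] u)) = true := by decide +kernel

theorem L2inv0 : allBelow 7 114 (invStep L2g0 L2g3 114) = true := by decide +kernel

theorem L2inv1 : allBelow 7 114 (invStep L2g1 L2g4 114) = true := by decide +kernel

theorem L2inv2 : allBelow 7 114 (invStep L2g2 L2g5 114) = true := by decide +kernel

end CfsgLib.SporRecognition.Cert.ONL37
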