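import Cfsg.Agent.Lib.SporRecognition.Cert.ONL37.LowerT

/-! Generated coset-enumeration certificate: ON over <points and lines of PG(2,7)>, 114 cosets. -/

set_option autoImplicit false
set_option maxRecDepth 20000
set_option linter.all false
set_option Elab.async false

namespace CfsgLib.SporRecognition.Cert.ONL37

open CfsgLib.SporRecognition.CosetCert

def mark2Lit : Nat := 0xfc
noncomputable def mark2 (u : Nat) : Nat := Nat.land (Nat.shiftRight mark2Lit (Nat.mul 1 u)) 1
def rk2Lit : Nat := 0xd980
noncomputable def rk2 (u : Nat) : Nat := Nat.land (Nat.shiftRight rk2Lit (Nat.mul 2 u)) 3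
def via2Lit : Nat := 0x2400
noncomputable def via2 (u : Nat) : Nat := Nat.land (Nat.shiftRight via2Lit (Nat.mul 3 u)) 7
def src2Lit : Nat := 0xa083020800000
noncomputable def src2 (u : Nat) : Nat := Nat.land (Nat.shiftRight src2Lit (Nat.mul 7 u)) 127
theorem reach2 : allBelow 7 114 (reachStep [L2g0, L2g1, L2g2, L2g3, L2g4, L2g5] 2 mark2 rk2 via2 src2 114) = true := by decide +kernel

theorem count2 : countLab 7 114 mark2 1 = 6 := by decide +kernel

end CfsgLib.SporRecognition.Cert.ONL37
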