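import Cfsg.Agent.Lib.SporRecognition.Cert.ONL37.LowerT

/-! Generated coset-enumeration certificate: ON over <points and lines of PG(2,7)>, 114 cosets. -/

set_option autoImplicit false
set_option maxRecDepth 20000
set_option linter.all false
set_option Elab.async false

namespace CfsgLib.SporRecognition.Cert.ONL37

open CfsgLib.SporRecognition.CosetCert

theorem L3eq0 : allBelow 7 114 (fun u => Nat.beq (L3g0 u) (trace [L2g0, L2g1, L2g3] u)) = true := by decide +kernel

theorem L3eq1 : allBelow 7 114 (fun u => Nat.beq (L3g1 u) (trace [L2g0, L2g0, L2g2, L2g3] u)) = true := by decide +kernel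

theorem L3eq2 : allBelow 7 114 (fun u => Nat.beq (L3g2 u) (trace [L2g4] u)) = true := by decide +kernel

theorem L3inv0 : allBelow 7 114 (invStep L3g0 L3g3 114) = true := by decide +kernel

theorem L3inv1 : allBelow 7 114 (invStep L3g1 L3g4 114) = true := by decide +kernel

theorem L3inv2 : allBelow 7 114 (invStep L3g2 L3g5 114) = true := by decide +kernel

end CfsgLib.SporRecognition.Cert.ONL37
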