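import Cfsg.Agent.Lib.SporRecognition.Cert.ONL37.LowerC1
import Cfsg.Agent.Lib.SporRecognition.Cert.ONL37.LowerC2
import Cfsg.Agent.Lib.SporRecognition.Cert.ONL37.LowerC3
import Cfsg.Agent.Lib.SporRecognition.Cert.ONL37.LowerC4
import Cfsg.Agent.Lib.SporRecognition.Cert.ONL37.LowerC5
import Cfsg.Agent.Lib.SporRecognition.Cert.ONL37.LowerC6
import Cfsg.Agent.Lib.SporRecognition.Cert.ONL37.LowerC7
import Cfsg.Agent.Lib.SporRecognition.Cert.ONL37.LowerC8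
import Cfsg.Agent.Lib.SporRecognition.Cert.ONL37.LowerC9
import Cfsg.Agent.Lib.SporRecognition.Cert.ONL37.LowerC10

/-! Generated coset-enumeration certificate: ON over <points and lines of PG(2,7)>, 114 cosets. -/

set_option autoImplicit false
set_option maxRecDepth 20000
set_option linter.all false
set_option Elab.async false

namespace CfsgLib.SporRecognition.Cert.ONL37

open CfsgLib.SporRecognition.CosetCert

theorem lower : ∀ Q : Subgroup (Equiv.Perm (Fin 114)), (∀ t ∈ seedT, Realised Q t) → 3753792 ≤ Nat.card Q := by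
  intro Q hQ
  have q0_0 : Realised (ptsStab Q ([] : List (Fin 114))) L0g0 := Realised.mono (ptsStab_nil Q).ge (hQ _ (by simp [seedT]))
  have q0_2 : Realised (ptsStab Q ([] : List (Fin 114))) L0g2 := Realised.inv q0_0 L0inv0
  have q0_1 : Realised (ptsStab Q ([] : List (Fin 114))) L0g1 := Realised.mono (ptsStab_nil Q).ge (hQ _ (by simp [seedT]))
  have q0_3 : Realised (ptsStab Q ([] : List (Fin 114))) L0g3 := Realised.inv q0_1 L0inv1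
  have R0 : ∀ t ∈ [L0g0, L0g1, L0g2, L0g3], Realised (ptsStab Q ([] : List (Fin 114))) t :=
    List.forall_mem_cons.mpr ⟨q0_0, List.forall_mem_cons.mpr ⟨q0_1, List.forall_mem_cons.mpr ⟨q0_2, List.forall_mem_cons.mpr ⟨q0_3, (fun _ h => absurd h List.not_mem_nil)⟩⟩⟩⟩
  have q1_0 : Realised (ptsStab Q ([⟨0, by decide⟩] : List (Fin 114))) L1g0 :=
    realised_new (prev := ([] : List (Fin 114))) (ts := [L0g1, L0g1, L0g2, L0g2, L0g3, L0g0, L0g1, L0g2, L0g1, L0g2])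
      (List.forall_mem_cons.mpr ⟨q0_1, (List.forall_mem_cons.mpr ⟨q0_1, (List.forall_mem_cons.mpr ⟨q0_2, (List.forall_mem_cons.mpr ⟨q0_2, (List.forall_mem_cons.mpr ⟨q0_3, (List.forall_mem_cons.mpr ⟨q0_0, (List.forall_mem_cons.mpr ⟨q0_1, (List.forall_mem_cons.mpr ⟨q0_2, (List.forall_mem_cons.mpr ⟨q0_1, (List.forall_mem_cons.mpr ⟨q0_2, (fun _ h => absurd h List.not_mem_nil)⟩)⟩)⟩)⟩)⟩)⟩)⟩)⟩)⟩)⟩) L1eq0 (by decide +kernel)
  have q1_3 : Realised (ptsStab Q ([⟨0, by decide⟩] : List (Fin 114))) L1g3 := Realised.inv q1_0 L1inv0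
  have q1_1 : Realised (ptsStab Q ([⟨0, by decide⟩] : List (Fin 114))) L1g1 :=
    realised_new (prev := ([] : List (Fin 114))) (ts := [L0g3, L0g0, L0g0, L0g3, L0g3, L0g2])
      (List.forall_mem_cons.mpr ⟨q0_3, (List.forall_mem_cons.mpr ⟨q0_0, (List.forall_mem_cons.mpr ⟨q0_0, (List.forall_mem_cons.mpr ⟨q0_3, (List.forall_mem_cons.mpr ⟨q0_3, (List.forall_mem_cons.mpr ⟨q0_2, (fun _ h => absurd h List.not_mem_nil)⟩)⟩)⟩)⟩)⟩)⟩) L1eq1 (by decide +kernel)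
  have q1_4 : Realised (ptsStab Q ([⟨0, by decide⟩] : List (Fin 114))) L1g4 := Realised.inv q1_1 L1inv1
  have q1_2 : Realised (ptsStab Q ([⟨0, by decide⟩] : List (Fin 114))) L1g2 :=
    realised_new (prev := ([] : List (Fin 114))) (ts := [L0g0, L0g0, L0g3, L0g3, L0g2, L0g3, L0g0, L0g1])
      (List.forall_mem_cons.mpr ⟨q0_0, (List.forall_mem_cons.mpr ⟨q0_0, (List.forall_mem_cons.mpr ⟨q0_3, (List.forall_mem_cons.mpr ⟨q0_3, (List.forall_mem_cons.mpr ⟨q0_2, (List.forall_mem_cons.mpr ⟨q0_3, (List.forall_mem_cons.mpr ⟨q0_0, (List.forall_mem_cons.mpr ⟨q0_1, (fun _ h => absurd h List.not_mem_nil)⟩)⟩)⟩)⟩)⟩)⟩)⟩)⟩) L1eq2 (by decide +kernel)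
  have q1_5 : Realised (ptsStab Q ([⟨0, by decide⟩] : List (Fin 114))) L1g5 := Realised.inv q1_2 L1inv2
  have R1 : ∀ t ∈ [L1g0, L1g1, L1g2, L1g3, L1g4, L1g5], Realised (ptsStab Q ([⟨0, by decide⟩] : List (Fin 114))) t :=
    List.forall_mem_cons.mpr ⟨q1_0, List.forall_mem_cons.mpr ⟨q1_1, List.forall_mem_cons.mpr ⟨q1_2, List.forall_mem_cons.mpr ⟨q1_3, List.forall_mem_cons.mpr ⟨q1_4, List.forall_mem_cons.mpr ⟨q1_5, (fun _ h => absurd h List.not_mem_nil)⟩⟩⟩⟩⟩⟩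
  have q2_0 : Realised (ptsStab Q ([⟨0, by decide⟩, ⟨1, by decide⟩] : List (Fin 114))) L2g0 :=
    realised_new (prev := ([⟨0, by decide⟩] : List (Fin 114))) (ts := [L1g4, L1g2, L1g1, L1g1, L1g2, L1g4, L1g5, L1g4])
      (List.forall_mem_cons.mpr ⟨q1_4, (List.forall_mem_cons.mpr ⟨q1_2, (List.forall_mem_cons.mpr ⟨q1_1, (List.forall_mem_cons.mpr ⟨q1_1, (List.forall_mem_cons.mpr ⟨q1_2, (List.forall_mem_cons.mpr ⟨q1_4, (List.forall_mem_cons.mpr ⟨q1_5, (List.forall_mem_cons.mpr ⟨q1_4, (fun _ h => absurd h List.not_mem_nil)⟩)⟩)⟩)⟩)⟩)⟩)⟩)⟩) L2eq0 (by decide +kernel)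
  have q2_3 : Realised (ptsStab Q ([⟨0, by decide⟩, ⟨1, by decide⟩] : List (Fin 114))) L2g3 := Realised.inv q2_0 L2inv0
  have q2_1 : Realised (ptsStab Q ([⟨0, by decide⟩, ⟨1, by decide⟩] : List (Fin 114))) L2g1 :=
    realised_new (prev := ([⟨0, by decide⟩] : List (Fin 114))) (ts := [L1g1, L1g2, L1g2, L1g1, L1g0, L1g4, L1g5, L1g5, L1g4])
      (List.forall_mem_cons.mpr ⟨q1_1, (List.forall_mem_cons.mpr ⟨q1_2, (List.forall_mem_cons.mpr ⟨q1_2, (List.forall_mem_cons.mpr ⟨q1_1, (List.forall_mem_cons.mpr ⟨q1_0, (List.forall_mem_cons.mpr ⟨q1_4, (List.forall_mem_cons.mpr ⟨q1_5, (List.forall_mem_cons.mpr ⟨q1_5, (List.forall_mem_cons.mpr ⟨q1_4, (fun _ h => absurd h List.not_mem_nil)⟩)⟩)⟩)⟩)⟩)⟩)⟩)⟩)⟩) L2eq1 (by decide +kernel)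
  have q2_4 : Realised (ptsStab Q ([⟨0, by decide⟩, ⟨1, by decide⟩] : List (Fin 114))) L2g4 := Realised.inv q2_1 L2inv1
  have q2_2 : Realised (ptsStab Q ([⟨0, by decide⟩, ⟨1, by decide⟩] : List (Fin 114))) L2g2 :=
    realised_new (prev := ([⟨0, by decide⟩] : List (Fin 114))) (ts := [L1g0, L1g1, L1g1, L1g1, L1g0, L1g1, L1g2, L1g3])
      (List.forall_mem_cons.mpr ⟨q1_0, (List.forall_mem_cons.mpr ⟨q1_1, (List.forall_mem_cons.mpr ⟨q1_1, (List.forall_mem_cons.mpr ⟨q1_1, (List.forall_mem_cons.mpr ⟨q1_0, (List.forall_mem_cons.mpr ⟨q1_1, (List.forall_mem_cons.mpr ⟨q1_2, (List.forall_mem_cons.mpr ⟨q1_3, (fun _ h => absurd h List.not_mem_nil)⟩)⟩)⟩)⟩)⟩)⟩)⟩)⟩) L2eq2 (by decide +kernel)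
  have q2_5 : Realised (ptsStab Q ([⟨0, by decide⟩, ⟨1, by decide⟩] : List (Fin 114))) L2g5 := Realised.inv q2_2 L2inv2
  have R2 : ∀ t ∈ [L2g0, L2g1, L2g2, L2g3, L2g4, L2g5], Realised (ptsStab Q ([⟨0, by decide⟩, ⟨1, by decide⟩] : List (Fin 114))) t :=
    List.forall_mem_cons.mpr ⟨q2_0, List.forall_mem_cons.mpr ⟨q2_1, List.forall_mem_cons.mpr ⟨q2_2, List.forall_mem_cons.mpr ⟨q2_3, List.forall_mem_cons.mpr ⟨q2_4, List.forall_mem_cons.mpr ⟨q2_5, (fun _ h => absurd h List.not_mem_nil)⟩⟩⟩⟩⟩⟩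
  have q3_0 : Realised (ptsStab Q ([⟨0, by decide⟩, ⟨1, by decide⟩, ⟨2, by decide⟩] : List (Fin 114))) L3g0 :=
    realised_new (prev := ([⟨0, by decide⟩, ⟨1, by decide⟩] : List (Fin 114))) (ts := [L2g0, L2g1, L2g3])
      (List.forall_mem_cons.mpr ⟨q2_0, (List.forall_mem_cons.mpr ⟨q2_1, (List.forall_mem_cons.mpr ⟨q2_3, (fun _ h => absurd h List.not_mem_nil)⟩)⟩)⟩) L3eq0 (by decide +kernel)
  have q3_3 : Realised (ptsStab Q ([⟨0, by decide⟩, ⟨1, by decide⟩, ⟨2, by decide⟩] : List (Fin 114))) L3g3 := Realised.inv q3_0 L3inv0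
  have q3_1 : Realised (ptsStab Q ([⟨0, by decide⟩, ⟨1, by decide⟩, ⟨2, by decide⟩] : List (Fin 114))) L3g1 :=
    realised_new (prev := ([⟨0, by decide⟩, ⟨1, by decide⟩] : List (Fin 114))) (ts := [L2g0, L2g0, L2g2, L2g3])
      (List.forall_mem_cons.mpr ⟨q2_0, (List.forall_mem_cons.mpr ⟨q2_0, (List.forall_mem_cons.mpr ⟨q2_2, (List.forall_mem_cons.mpr ⟨q2_3, (fun _ h => absurd h List.not_mem_nil)⟩)⟩)⟩)⟩) L3eq1 (by decide +kernel)
  have q3_4 : Realised (ptsStab Q ([⟨0, by decide⟩, ⟨1, by decide⟩, ⟨2, by decide⟩] : List (Fin 114))) L3g4 := Realised.inv q3_1 L3inv1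
  have q3_2 : Realised (ptsStab Q ([⟨0, by decide⟩, ⟨1, by decide⟩, ⟨2, by decide⟩] : List (Fin 114))) L3g2 :=
    realised_new (prev := ([⟨0, by decide⟩, ⟨1, by decide⟩] : List (Fin 114))) (ts := [L2g4])
      (List.forall_mem_cons.mpr ⟨q2_4, (fun _ h => absurd h List.not_mem_nil)⟩) L3eq2 (by decide +kernel)
  have q3_5 : Realised (ptsStab Q ([⟨0, by decide⟩, ⟨1, by decide⟩, ⟨2, by decide⟩] : List (Fin 114))) L3g5 := Realised.inv q3_2 L3inv2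
  have R3 : ∀ t ∈ [L3g0, L3g1, L3g2, L3g3, L3g4, L3g5], Realised (ptsStab Q ([⟨0, by decide⟩, ⟨1, by decide⟩, ⟨2, by decide⟩] : List (Fin 114))) t :=
    List.forall_mem_cons.mpr ⟨q3_0, List.forall_mem_cons.mpr ⟨q3_1, List.forall_mem_cons.mpr ⟨q3_2, List.forall_mem_cons.mpr ⟨q3_3, List.forall_mem_cons.mpr ⟨q3_4, List.forall_mem_cons.mpr ⟨q3_5, (fun _ h => absurd h List.not_mem_nil)⟩⟩⟩⟩⟩⟩
  have q4_0 : Realised (ptsStab Q ([⟨0, by decide⟩, ⟨1, by decide⟩, ⟨2, by decide⟩, ⟨8, by decide⟩] : List (Fin 114))) L4g0 :=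
    realised_new (prev := ([⟨0, by decide⟩, ⟨1, by decide⟩, ⟨2, by decide⟩] : List (Fin 114))) (ts := [L3g1, L3g0, L3g1, L3g0, L3g2, L3g0, L3g4, L3g3, L3g5, L3g3, L3g4, L3g3, L3g4])
      (List.forall_mem_cons.mpr ⟨q3_1, (List.forall_mem_cons.mpr ⟨q3_0, (List.forall_mem_cons.mpr ⟨q3_1, (List.forall_mem_cons.mpr ⟨q3_0, (List.forall_mem_cons.mpr ⟨q3_2, (List.forall_mem_cons.mpr ⟨q3_0, (List.forall_mem_cons.mpr ⟨q3_4, (List.forall_mem_cons.mpr ⟨q3_3, (List.forall_mem_cons.mpr ⟨q3_5, (List.forall_mem_cons.mpr ⟨q3_3, (List.forall_mem_cons.mpr ⟨q3_4, (List.forall_mem_cons.mpr ⟨q3_3, (List.forall_mem_cons.mpr ⟨q3_4, (fun _ h => absurd h List.not_mem_nil)⟩)⟩)⟩)⟩)⟩)⟩)⟩)⟩)⟩)⟩)⟩)⟩)⟩) L4eq0 (by decide +kernel)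
  have q4_1 : Realised (ptsStab Q ([⟨0, by decide⟩, ⟨1, by decide⟩, ⟨2, by decide⟩, ⟨8, by decide⟩] : List (Fin 114))) L4g1 := Realised.inv q4_0 L4inv0
  have R4 : ∀ t ∈ [L4g0, L4g1], Realised (ptsStab Q ([⟨0, by decide⟩, ⟨1, by decide⟩, ⟨2, by decide⟩, ⟨8, by decide⟩] : List (Fin 114))) t :=
    List.forall_mem_cons.mpr ⟨q4_0, List.forall_mem_cons.mpr ⟨q4_1, (fun _ h => absurd h List.not_mem_nil)⟩⟩
  have c5 : 1 ≤ Nat.card (ptsStab Q ([⟨0, by decide⟩, ⟨1, by decide⟩, ⟨2, by decide⟩, ⟨8, by decide⟩, ⟨9, by decide⟩] : List (Fin 114))) := one_le_card_ptsStab _ _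
  have c4 : 2 ≤ Nat.card (ptsStab Q ([⟨0, by decide⟩, ⟨1, by decide⟩, ⟨2, by decide⟩, ⟨8, by decide⟩] : List (Fin 114))) := by
    have h := card_ptsStab_ge ([⟨0, by decide⟩, ⟨1, by decide⟩, ⟨2, by decide⟩, ⟨8, by decide⟩] : List (Fin 114)) (⟨9, by decide⟩ : Fin 114) _ R4 mark4 rk4 via4 src4
      reach4 count4 c5
    exact h
  have c3 : 98 ≤ Nat.card (ptsStab Q ([⟨0, by decide⟩, ⟨1, by decide⟩, ⟨2, by decide⟩] : List (Fin 114))) := by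
    have h := card_ptsStab_ge ([⟨0, by decide⟩, ⟨1, by decide⟩, ⟨2, by decide⟩] : List (Fin 114)) (⟨8, by decide⟩ : Fin 114) _ R3 mark3 rk3 via3 src3
      reach3 count3 c4
    exact h
  have c2 : 588 ≤ Nat.card (ptsStab Q ([⟨0, by decide⟩, ⟨1, by decide⟩] : List (Fin 114))) := by
    have h := card_ptsStab_ge ([⟨0, by decide⟩, ⟨1, by decide⟩] : List (Fin 114)) (⟨2, by decide⟩ : Fin 114) _ R2 mark2 rk2 via2 src2
      reach2 count2 c3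
    exact h
  have c1 : 32928 ≤ Nat.card (ptsStab Q ([⟨0, by decide⟩] : List (Fin 114))) := by
    have h := card_ptsStab_ge ([⟨0, by decide⟩] : List (Fin 114)) (⟨1, by decide⟩ : Fin 114) _ R1 mark1 rk1 via1 src1
      reach1 count1 c2
    exact h
  have c0 : 3753792 ≤ Nat.card (ptsStab Q ([] : List (Fin 114))) := by
    have h := card_ptsStab_ge ([] : List (Fin 114)) (⟨0, by decide⟩ : Fin 114) _ R0 mark0 rk0 via0 src0
      reach0 count0 c1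
    exact h
  rw [ptsStab_nil] at c0
  exact c0

end CfsgLib.SporRecognition.Cert.ONL37
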