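import Cfsg.Agent.Lib.SporRecognition.Cert.ONL37.LowerT

/-! Generated coset-enumeration certificate: ON over <points and lines of PG(2,7)>, 114 cosets. -/

set_option autoImplicit false
set_option maxRecDepth 20000
set_option linter.all false
set_option Elab.async false

namespace CfsgLib.SporRecognition.Cert.ONL37

open CfsgLib.SporRecognition.CosetCert

def mark3Lit : Nat := 0x1ffffffffffff00
noncomputable def mark3 (u : Nat) : Nat := Nat.land (Nat.shiftRight mark3Lit (Nat.mul 1 u)) 1
def rk3Lit : Nat := 0x75ec79cc74aab59eb97aabb31da47573dc968000000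
noncomputable def rk3 (u : Nat) : Nat := Nat.land (Nat.shiftRight rk3Lit (Nat.mul 3 u)) 7
def via3Lit : Nat := 0x1288492402081088209210482482090208448000000
noncomputable def via3 (u : Nat) : Nat := Nat.land (Nat.shiftRight via3Lit (Nat.mul 3 u)) 7
def src3Lit : Nat := 0x173088d333c7d3a852204a516b8a271ead512586d72f6061a211834e88122941354547a610bc8b13850a8000000000000000
noncomputable def src3 (u : Nat) : Nat := Nat.land (Nat.shiftRight src3Lit (Nat.mul 7 u)) 127
theorem reach3 : allBelow 7 114 (reachStep [L3g0, L3g1, L3g2, L3g3, L3g4, L3g5] 8 mark3 rk3 via3 src3 114) = true := by decide +kernel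

theorem count3 : countLab 7 114 mark3 1 = 49 := by decide +kernel

end CfsgLib.SporRecognition.Cert.ONL37
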