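import Cfsg.Agent.Lib.SporRecognition.CosetCert.Order
import Cfsg.Prelude.Def_Spor_ON

/-! Generated coset-enumeration certificate: ON over <points and lines of PG(2,7)>, 114 cosets. -/

set_option autoImplicit false
set_option maxRecDepth 20000
set_option linter.all false
set_option Elab.async false

namespace CfsgLib.SporRecognition.Cert.ONL37

open CfsgLib.SporRecognition.CosetCert

def T1Lit : Nat := 0x1c376cd5a3364c582f5cb562b54a54274c95223448501f3c74e1b3464c172c54a13244480f1c3460b14244070c142030404071e1bf76dd9af569d19f365c98f161c17ef5db96ed59b15eb55a94e951a13e74d992e549911e345890e14180fdf3d78edd39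
noncomputable def T1 (u : Nat) : Nat := Nat.land (Nat.shiftRight T1Lit (Nat.mul 7 u)) 127
def T2Lit : Nat := 0x11203c8d09f3addab370d9a323664b9c3460b305cb18af5aaca1220549911ea53a554a13241a2c48e18284040e0c3020a04067d59b4e5d192cdcb16ebdaad2e74a9b26648ddc76f0d9bf5e0c77f15ec376955a3528539f123c38d0a2c17ef5dc07cf1d39
noncomputable def T2 (u : Nat) : Nat := Nat.land (Nat.shiftRight T2Lit (Nat.mul 7 u)) 127
def T3Lit : Nat := 0x1c3300c9a376a541265c78b0d026940c5e4d08e44908195a0ce12527c40458c4525361900f46ad3852824c07222cb9d60a9b71d8e75ede1ba73bbf9ebcf8cea9e18ba265a8f6eec9a599e55978ac417b97543bd51fd991732607d36151812a250ada71ef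
noncomputable def T3 (u : Nat) : Nat := Nat.land (Nat.shiftRight T3Lit (Nat.mul 7 u)) 127
def T4Lit : Nat := 0xaa75a6d0b30e7091f52d960446b88b734941aa32d0a2f3c198b54c889970ae101860a08021c2c50d18240323a595a41e0444ec19aa5ad902acbb18b7e57b733cae14ef3cc74b6cdd15dfeadd7edcca0fb8d9a3a70c9771e2438d16139d75a7e4bb21d41
noncomputable def T4 (u : Nat) : Nat := Nat.land (Nat.shiftRight T4Lit (Nat.mul 7 u)) 127
def T5Lit : Nat := 0x1c376cd5a33648119f447909d3068e17326cb305cb18af5aad425529952748408922650a8f040c2050c1c089142c60d1c20071e1bf76dd9aecdcb16ebdaad469d5a14aa4fd39f2ead19b261bd8afe3c1764ca97326ce90ede3d7cfe03a850e2458d1e0b9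
noncomputable def T5 (u : Nat) : Nat := Nat.land (Nat.shiftRight T5Lit (Nat.mul 7 u)) 127
def T6Lit : Nat := 0x1c2030c141004c5aa6444cb855465a145e783235c45b9a4a0ce123ea5b2c08553ad36859871c2c50d182400f48acb1d6404471b3474e192ef56ebf6e6507d8e96d9ba2bbfb99e570a779e55976316fcaf6760cd52d6c811e2438d16139917724fadadd41
noncomputable def T6 (u : Nat) : Nat := Nat.land (Nat.shiftRight T6Lit (Nat.mul 7 u)) 127
def C1Lit : Nat := 0x9249249249249249249249249249249249249249249249249249249249249249249249249249249249249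
noncomputable def C1 (u : Nat) : Nat := Nat.land (Nat.shiftRight C1Lit (Nat.mul 3 u)) 7
def C2Lit : Nat := 0x924924924924924924924924924924924924c924911249249249249249249249249249249249249492494
noncomputable def C2 (u : Nat) : Nat := Nat.land (Nat.shiftRight C2Lit (Nat.mul 3 u)) 7
def C3Lit : Nat := 0x119ac656b1a9ac68eb1a3ac689d1a2f568dd65d6344c46b394ace86b3a2ace8ab3a254e8b57a2759759d12
noncomputable def C3 (u : Nat) : Nat := Nat.land (Nat.shiftRight C3Lit (Nat.mul 3 u)) 7
def C4Lit : Nat := 0x14c5d4a62ec53177298ba54c5d6a62ed53176a98bb6c356721ab330d59d86acd43567a1ab370d59b86acdb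
noncomputable def C4 (u : Nat) : Nat := Nat.land (Nat.shiftRight C4Lit (Nat.mul 3 u)) 7
def C5Lit : Nat := 0x36db6d6db6d9249236db6d2492449249249249249276db6dadb6db249246db6da49248924924924924924e
noncomputable def C5 (u : Nat) : Nat := Nat.land (Nat.shiftRight C5Lit (Nat.mul 3 u)) 7
def C6Lit : Nat := 0x358d13ac68ad6345eb1a3358d1bac68ed6344eb1a38eb1a2758d15ac68bd63466b1a3758d1dac689d63471
noncomputable def C6 (u : Nat) : Nat := Nat.land (Nat.shiftRight C6Lit (Nat.mul 3 u)) 7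

noncomputable def tabs : Cfsg.Spor.ON.Gen → Bool → Nat → Nat :=
  fun a _ => match a with
  | .g => fun u => u
  | .a => T1
  | .b => T2
  | .c => T3
  | .d => T4
  | .e => T5
  | .f => T6

/-- The scalars. -/
noncomputable def coef : Cfsg.Spor.ON.Gen → Nat → Nat
  | .g => fun _ => 1
  | .a => C1
  | .b => C2
  | .c => C3
  | .d => C4
  | .e => C5
  | .f => C6
def pcodeLit : Nat := 0x1b1b8cc5e2b1388c7536994ba5526914e86c32170a84c221ccd6632d94c9643391a8c45a29128847134984b25124904e06830160a048201c452210c8441201040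
noncomputable def pcode (u : Nat) : Nat := Nat.land (Nat.shiftRight pcodeLit (Nat.mul 9 u)) 511

/-- The coordinate `k` of the point `u`. -/
noncomputable def coord (u k : Nat) : Nat := Nat.land (Nat.shiftRight (pcode u) (Nat.mul 3 k)) 7

def matN : Cfsg.Spor.ON.Gen → Nat → Nat → Nat
  | .g => fun i j => if i = j then 1 else 0
  | .a => fun i j => ([[1, 0, 0], [0, 1, 0], [0, 0, 1]][i]?.getD [])[j]?.getD 0
  | .b => fun i j => ([[1, 0, 0], [0, 2, 0], [0, 0, 4]][i]?.getD [])[j]?.getD 0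
  | .c => fun i j => ([[1, 2, 2], [2, 1, 5], [2, 5, 1]][i]?.getD [])[j]?.getD 0
  | .d => fun i j => ([[0, 0, 3], [0, 3, 0], [3, 0, 0]][i]?.getD [])[j]?.getD 0
  | .e => fun i j => ([[0, 1, 0], [1, 0, 0], [0, 0, 6]][i]?.getD [])[j]?.getD 0
  | .f => fun i j => ([[0, 0, 1], [0, 6, 0], [1, 0, 0]][i]?.getD [])[j]?.getD 0
def invN : Cfsg.Spor.ON.Gen → Nat → Nat → Nat
  | .g => fun i j => if i = j then 1 else 0
  | .a => fun i j => ([[1, 0, 0], [0, 1, 0], [0, 0, 1]][i]?.getD [])[j]?.getD 0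
  | .b => fun i j => ([[1, 0, 0], [0, 4, 0], [0, 0, 2]][i]?.getD [])[j]?.getD 0
  | .c => fun i j => ([[4, 1, 1], [1, 4, 6], [1, 6, 4]][i]?.getD [])[j]?.getD 0
  | .d => fun i j => ([[0, 0, 5], [0, 5, 0], [5, 0, 0]][i]?.getD [])[j]?.getD 0
  | .e => fun i j => ([[0, 1, 0], [1, 0, 0], [0, 0, 6]][i]?.getD [])[j]?.getD 0
  | .f => fun i j => ([[0, 0, 1], [0, 6, 0], [1, 0, 0]][i]?.getD [])[j]?.getD 0
def stdPts : List Nat := [8, 1, 0, 16]

end CfsgLib.SporRecognition.Cert.ONL37
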